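import Mathlib
import Groth.Agent.RegLocal.Completion

/-! Lemmas on adic completeness. -/

set_option autoImplicit false
universe u v

namespace Groth.Agent.AdicLemmas

variable {A : Type u} [CommRing A]

theorem isAdicComplete_of_le_of_fg {I J : Ideal A} (hIJ : I ≤ J) (hI : I.FG) (M : Type v)
    [AddCommGroup M] [Module A M] [IsAdicComplete J M] : IsAdicComplete I M := by
  classical
  have hle : ∀ n : ℕ, (I ^ n • ⊤ : Submodule A M) ≤ (J ^ n • ⊤ : Submodule A M) := fun n =>
    Submodule.smul_mono_left (Ideal.pow_right_mono hIJ n)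
  have hH : IsHausdorff I M := ⟨fun x hx => IsHausdorff.haus (I := J) inferInstance x fun n =>
    SModEq.mono (hle n) (hx n)⟩
  have hP : IsPrecomplete I M := by
    refine ⟨fun f hf => ?_⟩
    obtain ⟨L, hL⟩ := IsPrecomplete.prec (I := J) (M := M) inferInstance
      (fun {m n} h => SModEq.mono (hle m) (hf h))
    refine ⟨L, fun n => ?_⟩
    obtain ⟨s, hs⟩ := hI.pow (n := n)
    have hdec : ∀ k, ∃ m : A → M, (∀ g ∈ s, m g ∈ (J ^ k • ⊤ : Submodule A M)) ∧
        f (n + k + 1) - f (n + k) = ∑ g ∈ s, g • m g := by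
      intro k
      have h1 : f (n + k + 1) - f (n + k) ∈ (I ^ n • (I ^ k • ⊤) : Submodule A M) := by
        rw [← Submodule.mul_smul, ← pow_add]
        exact SModEq.sub_mem.mp (hf (Nat.le_succ _)).symm
      rw [← hs] at h1
      refine Submodule.smul_induction_on h1 (fun a ha m hm => ?_) ?_
      · obtain ⟨c, -, hc⟩ := Submodule.mem_span_finset.mp ha
        refine ⟨fun g => c g • m, fun g _ => Submodule.smul_mem _ _
          (Submodule.smul_mono_left (Ideal.pow_right_mono hIJ k) hm), ?_⟩
        simp only [← hc, Finset.sum_smul, smul_eq_mul, mul_comm (c _), mul_smul]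
      · rintro x y ⟨m1, h1, rfl⟩ ⟨m2, h2, rfl⟩
        exact ⟨m1 + m2, fun g hg => add_mem (h1 g hg) (h2 g hg), by
          simp [Finset.sum_add_distrib]⟩
    choose mm hmm hdiff using hdec
    have hconv : ∀ g ∈ s, ∃ y : M, ∀ K, (∑ k ∈ Finset.range K, mm k g) ≡ y
        [SMOD (J ^ K • ⊤ : Submodule A M)] := fun g hg =>
      IsPrecomplete.prec (I := J) (M := M) inferInstance fun {a b} hab => by
        rw [SModEq.comm, SModEq.sub_mem, ← Finset.sum_Ico_eq_sub _ hab]
        exact sum_mem fun k hk => Submodule.pow_smul_top_le J M (Finset.mem_Ico.mp hk).1 (hmm k g hg)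
    choose! y hy using hconv
    have htel : ∀ K, f (n + K) - f n = ∑ g ∈ s, g • ∑ k ∈ Finset.range K, mm k g := by
      intro K; induction K with
      | zero => simp
      | succ K ih =>
        simp only [Finset.sum_range_succ, smul_add, Finset.sum_add_distrib, ← ih, ← hdiff]
        rw [← Nat.add_assoc]; abel
    have heq : L - f n = ∑ g ∈ s, g • y g := by
      rw [← sub_eq_zero]
      refine IsHausdorff.haus (I := J) inferInstance _ fun K => SModEq.zero.mpr ?_
      have h1 : L - f (n + K) ∈ (J ^ K • ⊤ : Submodule A M) :=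
        Submodule.pow_smul_top_le J M (Nat.le_add_left K n) (SModEq.sub_mem.mp (hL (n + K)).symm)
      have h2 : ∑ g ∈ s, g • (∑ k ∈ Finset.range K, mm k g - y g) ∈ (J ^ K • ⊤ : Submodule A M) :=
        sum_mem fun g hg => Submodule.smul_mem _ _ (SModEq.sub_mem.mp (hy g hg K))
      have : L - f n - ∑ g ∈ s, g • y g =
          (L - f (n + K)) + ∑ g ∈ s, g • (∑ k ∈ Finset.range K, mm k g - y g) := by
        simp only [smul_sub, Finset.sum_sub_distrib, ← htel]; abel
      rw [this]; exact add_mem h1 h2
    rw [SModEq.comm, SModEq.sub_mem, heq, ← hs]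
    exact sum_mem fun g hg => Submodule.smul_mem_smul (Submodule.subset_span hg) trivial
  constructor

theorem module_finite_of_quotient_finite (I : Ideal A) [IsAdicComplete I A] (M : Type v)
    [AddCommGroup M] [Module A M] [IsHausdorff I M]
    (h : Module.Finite A (M ⧸ (I • ⊤ : Submodule A M))) : Module.Finite A M := by
  obtain ⟨n, g, hg⟩ := Module.Finite.exists_fin' A (M ⧸ (I • ⊤ : Submodule A M))
  choose m hm using fun i => Submodule.mkQ_surjective _ (g (Pi.single i 1))
  let f : (Fin n → A) →ₗ[A] M := Fintype.linearCombination A m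
  have hfg : (I • ⊤ : Submodule A M).mkQ ∘ₗ f = g := by
    refine LinearMap.pi_ext' fun i => LinearMap.ext_ring ?_
    simp only [LinearMap.comp_apply, LinearMap.coe_single, f]
    rw [Fintype.linearCombination_apply_single, one_smul, hm]
  have hP : IsPrecomplete I (Fin n → A) := by
    refine ⟨fun s hs => ?_⟩
    have hsmul : ∀ k (v : Fin n → A), v ∈ (I ^ k • ⊤ : Submodule A (Fin n → A)) ↔ ∀ i, v i ∈ I ^ k := by
      intro k v
      constructor
      · intro hv i
        refine Submodule.smul_induction_on hv (fun a ha w _ => ?_) (fun x y hx hy => add_mem hx hy)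
        exact Ideal.mul_mem_right _ _ ha
      · intro hv
        rw [← Finset.univ_sum_single v]
        refine sum_mem fun i _ => ?_
        rw [show Pi.single i (v i) = v i • (Pi.single i (1:A) : Fin n → A) by
          rw [← Pi.single_smul, smul_eq_mul, mul_one]]
        exact Submodule.smul_mem_smul (hv i) trivial
    have hcau : ∀ i, ∀ {a b : ℕ}, a ≤ b → s a i ≡ s b i [SMOD (I ^ a • ⊤ : Submodule A A)] :=
      fun i {a b} hab => by
        rw [SModEq.sub_mem, smul_eq_mul, Ideal.mul_top]
        exact (hsmul a _).mp (SModEq.sub_mem.mp (hs hab)) i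
    choose L hL using fun i => IsPrecomplete.prec (I := I) (M := A) inferInstance (hcau i)
    refine ⟨L, fun k => SModEq.sub_mem.mpr ((hsmul k _).mpr fun i => ?_)⟩
    have := SModEq.sub_mem.mp (hL i k)
    rwa [smul_eq_mul, Ideal.mul_top] at this
  exact Module.Finite.of_surjective f (surjective_of_mkQ_comp_surjective (I := I) (hfg ▸ hg))

theorem isAdicComplete_of_quotient [IsNoetherianRing A] (I J : Ideal A) [IsAdicComplete I A]
    [IsAdicComplete (J.map (Ideal.Quotient.mk I)) (A ⧸ I)] : IsAdicComplete J A := by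
  let J' := I ⊔ J
  have hmap : J'.map (algebraMap A (A ⧸ I)) = J.map (Ideal.Quotient.mk I) := by
    rw [Ideal.Quotient.algebraMap_eq, Ideal.map_sup, Ideal.map_quotient_self, bot_sup_eq]
  have hQ : IsAdicComplete J' (A ⧸ I) :=
    (IsAdicComplete.map_algebraMap_iff (R := A) (S := A ⧸ I) J' (A ⧸ I)).mp (hmap ▸ inferInstance)
  have hjac : J' ≤ (⊥ : Ideal A).jacobson := by
    refine sup_le (IsAdicComplete.le_jacobson_bot I) fun a ha => Ideal.mem_jacobson_bot.mpr fun y => ?_
    have h := Ideal.mem_jacobson_bot.mp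
      (IsAdicComplete.le_jacobson_bot (J.map (Ideal.Quotient.mk I)) (Ideal.mem_map_of_mem _ ha))
      (Ideal.Quotient.mk I y)
    rw [← map_mul, ← map_one (Ideal.Quotient.mk I), ← map_add] at h
    obtain ⟨b, hb⟩ := Ideal.Quotient.mk_surjective (↑h.unit⁻¹ : A ⧸ I)
    have h1 : (a * y + 1) * b - 1 ∈ I := by
      rw [← Ideal.Quotient.eq, map_mul, hb, map_one, IsUnit.mul_val_inv]
    have h2 := Ideal.mem_jacobson_bot.mp (IsAdicComplete.le_jacobson_bot I h1) 1
    rw [mul_one, sub_add_cancel] at h2
    exact isUnit_of_mul_isUnit_left h2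
  have hH : IsHausdorff J' A := IsHausdorff.of_le_jacobson J' A hjac
  set C := AdicCompletion J' A
  have : IsNoetherianRing C := RegLocal.isNoetherianRing_adicCompletion J' J'.fg_of_isNoetherianRing
  have hCc := AdicCompletion.isAdicComplete_self J' J'.fg_of_isNoetherianRing
  have hCH : IsHausdorff (I.map (algebraMap A C)) C :=
    IsHausdorff.of_le_jacobson _ _ ((Ideal.map_mono (le_sup_left : I ≤ J')).trans (IsAdicComplete.le_jacobson_bot _))
  have hsurj : Function.Surjective (algebraMap A C) := by
    refine surjective_of_mk_map_comp_surjective (I := I) (algebraMap A C) ?_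
    intro q
    obtain ⟨x, rfl⟩ := Ideal.Quotient.mk_surjective q
    obtain ⟨ā, hā⟩ := AdicCompletion.of_surjective J' (A ⧸ I) (AdicCompletion.map J' I.mkQ x)
    obtain ⟨a, rfl⟩ := Submodule.mkQ_surjective I ā
    refine ⟨a, ?_⟩
    rw [RingHom.comp_apply, eq_comm, Ideal.Quotient.eq]
    have hker : AdicCompletion.map J' I.mkQ (x - algebraMap A C a) = 0 := by
      rw [map_sub, sub_eq_zero, ← hā]
      exact (AdicCompletion.map_of J' I.mkQ a).symm
    obtain ⟨w, hw⟩ := (AdicCompletion.map_exact (I := J') I.injective_subtype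
      (LinearMap.exact_subtype_mkQ I) (Submodule.mkQ_surjective I) _).mp hker
    obtain ⟨t, rfl⟩ := AdicCompletion.ofTensorProduct_surjective_of_finite J' I w
    rw [← hw]
    clear hw hker
    induction t with
    | zero => simp
    | tmul r i =>
      have e : AdicCompletion.map J' I.subtype (AdicCompletion.ofTensorProduct J' I (r ⊗ₜ i)) =
          r * algebraMap A C (i : A) := by
        rw [AdicCompletion.ofTensorProduct_tmul, map_smul, AdicCompletion.map_of]
        rfl
      rw [e]
      exact Ideal.mul_mem_left _ _ (Ideal.mem_map_of_mem _ i.2)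
    | add p q hp hq => rw [map_add, map_add]; exact add_mem hp hq
  have hof : Function.Bijective (AdicCompletion.of J' A) :=
    ⟨AdicCompletion.of_injective_iff.mpr hH, hsurj⟩
  have := AdicCompletion.of_bijective_iff.mp hof
  exact isAdicComplete_of_le_of_fg (le_sup_right : J ≤ J') J.fg_of_isNoetherianRing A

end Groth.Agent.AdicLemmas
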