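import Mathlib

/-! The completion of a completion. -/

set_option autoImplicit false
universe u v

namespace Groth.Agent.AdicLemmas

variable {A : Type u} [CommRing A] (I : Ideal A) (M : Type v) [AddCommGroup M] [Module A M]

theorem smul_top_le_ker_eval (n : ℕ) :
    (I ^ n • ⊤ : Submodule A (AdicCompletion I M)) ≤ LinearMap.ker (AdicCompletion.eval I M n) := by
  intro x hx
  refine Submodule.smul_induction_on hx (fun a ha y _ => ?_) (fun p q hp hq => add_mem hp hq)
  rw [LinearMap.mem_ker, map_smul]
  obtain ⟨z, hz⟩ := Submodule.mkQ_surjective _ (AdicCompletion.eval I M n y)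
  rw [← hz, ← map_smul, Submodule.mkQ_apply, Submodule.Quotient.mk_eq_zero]
  exact Submodule.smul_mem_smul ha trivial

/-- The evaluation retraction of the completion of a completion. -/
noncomputable def doubleEval :
    AdicCompletion I (AdicCompletion I M) →ₗ[A] AdicCompletion I M where
  toFun z := ⟨fun n => Submodule.liftQ _ (AdicCompletion.eval I M n) (smul_top_le_ker_eval I M n)
      (z.val n), fun {m n} hmn => by
    obtain ⟨w, hw⟩ := Submodule.mkQ_surjective _ (z.val n)
    have hm : z.val m = Submodule.Quotient.mk w :=
      (z.property hmn).symm.trans ((congrArg _ hw.symm).trans rfl)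
    show AdicCompletion.transitionMap I M hmn
        (Submodule.liftQ _ (AdicCompletion.eval I M n) (smul_top_le_ker_eval I M n) (z.val n)) =
      Submodule.liftQ _ (AdicCompletion.eval I M m) (smul_top_le_ker_eval I M m) (z.val m)
    rw [← hw, hm]
    exact w.property hmn⟩
  map_add' z w := by apply Subtype.ext; funext n; exact map_add _ (z.val n) (w.val n)
  map_smul' c z := by apply Subtype.ext; funext n; exact map_smul _ c (z.val n)

theorem doubleEval_comp_of :
    doubleEval I M ∘ₗ AdicCompletion.of I (AdicCompletion I M) = LinearMap.id := by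
  apply LinearMap.ext; intro x; apply Subtype.ext; funext n; rfl

theorem doubleEval_val {z : AdicCompletion I (AdicCompletion I M)} {n : ℕ}
    {w : AdicCompletion I M} (h : z.val n = Submodule.Quotient.mk w) :
    (doubleEval I M z).val n = w.val n := by
  show Submodule.liftQ _ (AdicCompletion.eval I M n) (smul_top_le_ker_eval I M n) (z.val n) = _
  rw [h]; rfl

theorem isAdicComplete_adicCompletion_iff :
    IsAdicComplete I (AdicCompletion I M) ↔ ∀ (n : ℕ) (x : AdicCompletion I M),
      ∃ y : M, x - AdicCompletion.of I M y ∈ (I ^ n • ⊤ : Submodule A (AdicCompletion I M)) := by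
  have hψ' : ∀ x, doubleEval I M (AdicCompletion.of I _ x) = x := fun x =>
    LinearMap.congr_fun (doubleEval_comp_of I M) x
  constructor
  · intro hc n x
    have hb := (AdicCompletion.of_bijective_iff (I := I) (M := AdicCompletion I M)).mpr hc
    obtain ⟨y, hy⟩ := Submodule.mkQ_surjective _ (x.val n)
    refine ⟨y, ?_⟩
    set d := x - AdicCompletion.of I M y
    have hd : d.val n = 0 := by
      show x.val n - _ = 0
      rw [AdicCompletion.of_apply, hy]; exact sub_self _
    obtain ⟨e', he'⟩ := hb.2 (AdicCompletion.map I (AdicCompletion.of I M) d)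
    have hed : e' = d := by
      rw [← hψ' e', he']
      apply Subtype.ext; funext m
      obtain ⟨w, hw⟩ := Submodule.mkQ_surjective _ (d.val m)
      rw [doubleEval_val I M (w := AdicCompletion.of I M w)
        (by rw [AdicCompletion.map_val_apply, ← hw]; rfl), AdicCompletion.of_apply, hw]
    rw [← Submodule.Quotient.mk_eq_zero, ← hed]
    show (AdicCompletion.of I _ e').val n = 0
    rw [he', AdicCompletion.map_val_apply, hd, map_zero]
  · intro h
    refine AdicCompletion.of_bijective_iff.mp
      ⟨fun a b hab => by rw [← hψ' a, hab, hψ'], fun z => ⟨doubleEval I M z, ?_⟩⟩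
    apply Subtype.ext; funext n
    obtain ⟨w, hw⟩ := Submodule.mkQ_surjective _ (z.val n)
    have hev := doubleEval_val I M (z := z) (n := n) (w := w) hw.symm
    rw [AdicCompletion.of_apply, ← hw]
    show Submodule.Quotient.mk _ = Submodule.Quotient.mk w
    rw [Submodule.Quotient.eq]
    obtain ⟨y, hy⟩ := h n (doubleEval I M z)
    obtain ⟨y', hy'⟩ := h n w
    have h1 := LinearMap.mem_ker.mp (smul_top_le_ker_eval I M n hy)
    have h2 := LinearMap.mem_ker.mp (smul_top_le_ker_eval I M n hy')
    rw [map_sub, sub_eq_zero] at h1 h2
    have h3 : y - y' ∈ (I ^ n • ⊤ : Submodule A M) := by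
      rw [← Submodule.Quotient.eq]
      exact (h1.symm.trans hev).trans h2
    have h4 : AdicCompletion.of I M (y - y') ∈ (I ^ n • ⊤ : Submodule A (AdicCompletion I M)) := by
      have := Submodule.mem_map_of_mem (f := AdicCompletion.of I M) h3
      rw [Submodule.map_smul''] at this
      exact Submodule.smul_mono le_rfl le_top this
    rw [map_sub] at h4
    have := add_mem (sub_mem hy hy') h4
    convert this using 1
    abel

end Groth.Agent.AdicLemmas
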